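import Cfsg.Agent.Spor.C3V.D0

set_option autoImplicit false
set_option maxRecDepth 100000000
set_option Elab.async false

namespace Cfsg.Agent.Spor.C3V

theorem ok0 : Net.okb 2 n0 = true := by decide +kernel

theorem ok1 : Net.okb 2 n1 = true := by decide +kernel

theorem ok2 : Net.okb 2 n2 = true := by decide +kernel

theorem ok3 : Net.okb 2 n3 = true := by decide +kernel

theorem rel0 : T.rel 2 [1, 1] 0 2 = true := by decide +kernel

theorem rel1 : T.rel 2 [2, 2] 0 2 = true := by decide +kernel

theorem rel2 : T.rel 2 [3, 3] 0 2 = true := by decide +kernel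

theorem rel3 : T.rel 2 [4, 4] 0 2 = true := by decide +kernel

theorem rel4 : T.rel 2 [3, 2, 3, 2, 3, 2, 3, 2, 3, 2, 3, 2] 0 2 = true := by decide +kernel

theorem rel5 : T.rel 2 [4, 2, 4, 2, 4, 2, 4, 2, 4, 2, 4, 2] 0 2 = true := by decide +kernel

theorem rel6 : T.rel 2 [4, 3, 4, 3, 4, 3, 4, 3] 0 2 = true := by decide +kernel

theorem rel7 : T.rel 2 [2, 3, 2, 3, 2, 3, 4, 3, 2, 4, 3, 4, 3, 2, 3, 2, 4, 2, 4] 0 2 = true := by decide +kernel

theorem rel8 : T.rel 2 [2, 3, 2, 3, 4, 2, 3, 2, 4, 2, 3, 2, 3, 4, 2, 3, 2, 4] 0 2 = true := by decide +kernel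

theorem rel9 : T.rel 2 [3, 1, 3, 1, 3, 1] 0 2 = true := by decide +kernel

theorem rel10 : T.rel 2 [3, 4, 2, 3, 4, 2, 4, 2, 3, 4, 2, 4, 3, 2, 4, 1, 2, 1] 0 2 = true := by decide +kernel

theorem rel11 : T.rel 2 [4, 2, 4, 2, 3, 4, 2, 3, 4, 2, 3, 4, 1, 4, 2, 4, 1] 0 2 = true := by decide +kernel

theorem rel12 : T.rel 2 [2, 4, 3, 2, 4, 2, 4, 3, 2, 4, 2, 4, 2, 3, 1, 3, 4, 2, 4, 3, 1] 0 2 = true := by decide +kernel

theorem hcov : T.treeCov (ones 3) L 1 = true := by decide +kernel

theorem hg : lall (fun z => band (memL L z) (band (sub (ones 3) (T.let z).cl) (T.closed (ones 3) z))) gs = true := by decide +kernel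

theorem hivk : ivOk (2 * 4) EX IV = true := by decide +kernel

theorem hrt : RT.ok (2 * 4) EX RL = true := by decide +kernel

theorem hdefs : defs F 37 = true := by decide +kernel

noncomputable def st0_l : List Nat := [nat_lit 0x3ff, nat_lit 0x3ff, nat_lit 0x3ff, nat_lit 0x8000000004d0000080000c05, nat_lit 0x9e0004b0002680013c000960004f0002680012c0009e0004b00027800134000960004f0002680000411, nat_lit 0x80000000027800134000960004f0002680012c0009e0004d0002580013c000960004f0000080001410, nat_lit 0x3e000120000580001c000080002a8000240001e00017000128000fc0b, nat_lit 0x90000280000c00003800010000040000000013c000960004f00000800014000aa000040002980000c10, nat_lit 0x1600006800020000080002a000010000000004a0000080000c000b000048000140000600001c000110000d8000ac12, nat_lit 0x2d0000b002, nat_lit 0x42000130000940007e000560001f0000900002c0001900014800124000b200002000028000240001e000170001280010413, nat_lit 0x2f00010802, nat_lit 0x1640000400000000260001280009c0004a00027000128000980004e00025000138000940004c0002700012800002000030002c00012015,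 nat_lit 0x3100012002, nat_lit 0x3100016402, nat_lit 0x2b0000f80008200061000130000580001c000110000d800170000540001a000080000200000e0000b0000980008412, nat_lit 0x68000680002b8001a404, nat_lit 0x36000340000f803, nat_lit 0x350000d002, nat_lit 0x360000d802, nat_lit 0x230000a0000300000e00004000010000a4000050002a000024000220001b0002e0000a800034000100000680005412, nat_lit 0x470003980008c03, nat_lit 0x7000074000328001d404, nat_lit 0x3a0003a0000a003, nat_lit 0x3c0003a00019c03, nat_lit 0x3b0000e002, nat_lit 0x3c0000e802, nat_lit 0x3d0000f002, nat_lit 0x180000780004200070000120000580001c000080002a800010000a6000050002a8000240001e000170001380011412, nat_lit 0xc80003c0001200005000018000080005200001800204000f8000800000100014c0000a000550000200000c11, nat_lit 0xb8000380001f00019800214000a00000200002800150000080000300028000008000a4000050002a000010000a400003000408001f015, nat_lit 0x2f0004380020003, nat_lit 0x850004400007003, nat_lit 0x4500021402, nat_lit 0x20000450000c803, nat_lit 0x600008e0003780023c04, nat_lit 0x710004780007803,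 nat_lit 0x4700008002, nat_lit 0x820004880025403, nat_lit 0x250004980023403, nat_lit 0x450004b80007c03, nat_lit 0x170004c80000803, nat_lit 0x100000980001380026c04, nat_lit 0x180004e80001403, nat_lit 0x3e0009e0003f00028404, nat_lit 0x144000940004f00020004, nat_lit 0x280029402]
theorem st0 : band (steps F IV RT base st0_l 37) (Nat.beq (Nat.add 37 (llen st0_l)) 84) = true := by decide +kernel

theorem rot1_1 : T.rot 1 [1] (sel (ones 3) ip1 1) = true := by decide +kernel

theorem rot1_1r : band (Rule.ok (2 * 4) EX RL ⟨1 :: [1], [], 9, false⟩) (lall (memL L) [1]) = true := by decide +kernel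

theorem rot1_2 : T.rot 1 [3, 1, 3, 1, 3] (sel (ones 3) ip1 2) = true := by decide +kernel

theorem rot1_2r : band (Rule.ok (2 * 4) EX RL ⟨1 :: [3, 1, 3, 1, 3], [], 5, false⟩) (lall (memL L) [3, 1, 3, 1, 3]) = true := by decide +kernel

theorem cov1 : T.cover 1 [(sel (ones 3) ip1 1), (sel (ones 3) ip1 2)] = true := by decide +kernel

theorem tl1 : T.treeLt 2 1 = true := by decide +kernel

theorem rot2_1 : T.rot 2 [4, 1, 4, 2, 4, 2, 3, 4, 2, 3, 4, 2, 3, 4, 1, 4] (sel (ones 3) ip2 1) = true := by decide +kernel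

theorem rot2_1r : band (Rule.ok (2 * 4) EX RL ⟨2 :: [4, 1, 4, 2, 4, 2, 3, 4, 2, 3, 4, 2, 3, 4, 1, 4], [0, 6, 2], 7, true⟩) (lall (memL L) [4, 1, 4, 2, 4, 2, 3, 4, 2, 3, 4, 2, 3, 4, 1, 4]) = true := by decide +kernel

theorem rot2_2 : T.rot 2 [1, 3, 4, 2, 3, 4, 2, 4, 2, 3, 4, 2, 4, 3, 2, 4, 1] (sel (ones 3) ip2 2) = true := by decide +kernel

theorem rot2_2r : band (Rule.ok (2 * 4) EX RL ⟨2 :: [1, 3, 4, 2, 3, 4, 2, 4, 2, 3, 4, 2, 4, 3, 2, 4, 1], [0, 2], 6, true⟩) (lall (memL L) [1, 3, 4, 2, 3, 4, 2, 4, 2, 3, 4, 2, 4, 3, 2, 4, 1]) = true := by decide +kernel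

theorem cov2 : T.cover 2 [(sel (ones 3) ip2 1), (sel (ones 3) ip2 2), 1] = true := by decide +kernel

theorem tl2 : Nat.beq (T.let 2).tt 0 = true := by decide +kernel

theorem rot3_1 : T.rot 3 [3] (sel (ones 3) ip3 1) = true := by decide +kernel

theorem rot3_1r : band (Rule.ok (2 * 4) EX RL ⟨3 :: [3], [], 9, false⟩) (lall (memL L) [3]) = true := by decide +kernel

theorem cov3 : T.cover 3 [(sel (ones 3) ip3 1), 1] = true := by decide +kernel

theorem tl3 : T.treeLt 2 3 = true := by decide +kernel

theorem rot4_1 : T.rot 4 [4] (sel (ones 3) ip4 1) = true := by decide +kernel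

theorem rot4_1r : band (Rule.ok (2 * 4) EX RL ⟨4 :: [4], [], 9, false⟩) (lall (memL L) [4]) = true := by decide +kernel

theorem ep0a : T.treePath [1] (Nat.shiftLeft 1 1) 1 = true := by decide +kernel

theorem ep0b : T.treePath [1, 3] (Nat.shiftLeft 1 2) 1 = true := by decide +kernel

theorem ep0c : band (lall (fun z => Nat.ble z 255) ([1] ++ 4 :: [3, 1])) (concl F IV 84 0x2000030005300000004 (encA ([1] ++ 4 :: [3, 1]) 0)) = true := by decide +kernel

theorem ep0d : band (Rule.ok (2 * 4) EX [] ⟨lapp [1, 3] [3, 1], [], 0, false⟩) (band (lall (memL L) [1]) (lall (memL L) [1, 3])) = true := by decide +kernel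

theorem cov4 : T.cover 4 [(sel (ones 3) ip4 1), 1, (Nat.shiftLeft 1 1)] = true := by decide +kernel

theorem tl4 : Nat.beq (T.let 4).tt 0 = true := by decide +kernel

end Cfsg.Agent.Spor.C3V
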