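import Cfsg.Agent.Spor.Cert
import Cfsg.Agent.Spor.C3V.C0

set_option autoImplicit false
set_option maxRecDepth 100000000
set_option Elab.async false
set_option linter.unusedSectionVars false

namespace Cfsg.Agent.Spor.C3V

theorem hT : T.Ok 2 := T.ok_of 2 (show AllP (fun n => Net.okb 2 n = true) [n0, n1, n2, n3] from AllP.cons ok0 (AllP.cons ok1 (AllP.cons ok2 (AllP.cons ok3 (AllP.nil)))))

noncomputable def fP : ℕ → Equiv.Perm ℕ := T.fP gs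

theorem hsq : ∀ j < 4, j < 4 → T.fP gs j * T.fP gs j = 1 :=
  Tab.sq (show AllP (fun z => evA T.τ [z, z] = 1) [1, 2, 3, 4] from AllP.cons (hT.one rel0) (AllP.cons (hT.one rel1) (AllP.cons (hT.one rel2) (AllP.cons (hT.one rel3) (AllP.nil))))) 4 rfl

theorem hiv : IvOk (2 * 4) (atm 4 (T.fP gs)) := ivOk_atm hsq

theorem pz1 : PZ T (atm 4 (T.fP gs)) EX 1 := PZ.of_atom (y := 2 * 0) (by decide +kernel) (atm_two_mul _ (by decide))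
theorem pz2 : PZ T (atm 4 (T.fP gs)) EX 2 := PZ.of_atom (y := 2 * 1) (by decide +kernel) (atm_two_mul _ (by decide))
theorem pz3 : PZ T (atm 4 (T.fP gs)) EX 3 := PZ.of_atom (y := 2 * 2) (by decide +kernel) (atm_two_mul _ (by decide))
theorem pz4 : PZ T (atm 4 (T.fP gs)) EX 4 := PZ.of_atom (y := 2 * 3) (by decide +kernel) (atm_two_mul _ (by decide))
theorem hPZ : AllP (PZ T (atm 4 (T.fP gs)) EX) L :=
  show AllP (PZ T (atm 4 (T.fP gs)) EX) [1, 2, 3, 4] from AllP.cons pz1 (AllP.cons pz2 (AllP.cons pz3 (AllP.cons pz4 (AllP.nil))))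

theorem hrel : ∀ l ∈ RL, ev (atm 4 (T.fP gs)) l = 1 :=
  relAll_sound hiv (W := [[3, 2, 3, 2, 3, 2, 3, 2, 3, 2, 3, 2], [4, 2, 4, 2, 4, 2, 4, 2, 4, 2, 4, 2], [4, 3, 4, 3, 4, 3, 4, 3], [2, 3, 2, 3, 2, 3, 4, 3, 2, 4, 3, 4, 3, 2, 3, 2, 4, 2, 4], [2, 3, 2, 3, 4, 2, 3, 2, 4, 2, 3, 2, 3, 4, 2, 3, 2, 4], [3, 1, 3, 1, 3, 1], [3, 4, 2, 3, 4, 2, 4, 2, 3, 4, 2, 4, 3, 2, 4, 1, 2, 1], [4, 2, 4, 2, 3, 4, 2, 3, 4, 2, 3, 4, 1, 4, 2, 4, 1], [2, 4, 3, 2, 4, 2, 4, 3, 2, 4, 2, 4, 2, 3, 1, 3, 4, 2, 4, 3, 1]]) (rules := [⟨[3, 2, 3, 2, 3, 2, 3, 2, 3, 2, 3, 2], [], 0, true⟩, ⟨[4, 2, 4, 2, 4, 2, 4, 2, 4, 2, 4, 2], [], 1, true⟩, ⟨[4, 3, 4, 3, 4, 3, 4, 3], [], 2, true⟩, ⟨[2, 3, 2, 3, 2, 3, 4, 3, 2, 4, 3, 4, 3, 2, 3, 2, 4, 2, 4], [], 3, true⟩, ⟨[2, 3, 2, 3, 4, 2, 3, 2, 4, 2, 3, 2, 3, 4, 2, 3, 2, 4], [], 4, true⟩, ⟨[3, 1, 3, 1, 3, 1], [], 5, true⟩, ⟨[3,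 4, 2, 3, 4, 2, 4, 2, 3, 4, 2, 4, 3, 2, 4, 1, 2, 1], [], 6, true⟩, ⟨[4, 2, 4, 2, 3, 4, 2, 3, 4, 2, 3, 4, 1, 4, 2, 4, 1], [], 7, true⟩, ⟨[2, 4, 3, 2, 4, 2, 4, 3, 2, 4, 2, 4, 2, 3, 1, 3, 4, 2, 4, 3, 1], [], 8, true⟩]) hPZ (AllP.cons (hT.one rel4) (AllP.cons (hT.one rel5) (AllP.cons (hT.one rel6) (AllP.cons (hT.one rel7) (AllP.cons (hT.one rel8) (AllP.cons (hT.one rel9) (AllP.cons (hT.one rel10) (AllP.cons (hT.one rel11) (AllP.cons (hT.one rel12) (AllP.nil)))))))))) (by decide +kernel)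

theorem hst : StepsOk F IV RT base 37 84 := (steps_sound' st0)

section
variable {G : Type} [Group G] {a : ℕ → G} (hi : IvOk (2 * 4) a) (hR : ∀ r ∈ RL, ev a r = 1)
  {H : Subgroup G} (hb : ∀ z ∈ base, letV a EX z ∈ H)
include hi hR hb

theorem let1 : LetOk H (letV a EX) T L 1 :=
  LetOk.of hT tl1 cov1 (AllP.cons (Just.rot hT hi hR rot1_1 rot1_1r) (AllP.cons (Just.rot hT hi hR rot1_2 rot1_2r) (AllP.nil)))
theorem let2 : LetOk H (letV a EX) T L 2 :=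
  LetOk.of' hT tl2 cov2 (AllP.cons (Just.rot hT hi hR rot2_1 rot2_1r) (AllP.cons (Just.rot hT hi hR rot2_2 rot2_2r) (AllP.cons (Just.base (hb 2 (by decide))) (AllP.nil))))
theorem let3 : LetOk H (letV a EX) T L 3 :=
  LetOk.of hT tl3 cov3 (AllP.cons (Just.rot hT hi hR rot3_1 rot3_1r) (AllP.cons (Just.base (hb 3 (by decide))) (AllP.nil)))
theorem let4 : LetOk H (letV a EX) T L 4 :=
  LetOk.of' hT tl4 cov4 (AllP.cons (Just.rot hT hi hR rot4_1 rot4_1r) (AllP.cons (Just.base (hb 4 (by decide))) (AllP.cons (Just.epi hT hi ep0a ep0b (seq_mem hi hR rfl hivk hrt H hb hdefs hst ep0c) ep0d) (AllP.nil))))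
theorem hlet : AllP (LetOk H (letV a EX) T L) L :=
  show AllP (LetOk H (letV a EX) T L) [1, 2, 3, 4] from AllP.cons (let1 hi hR hb) (AllP.cons (let2 hi hR hb) (AllP.cons (let3 hi hR hb) (AllP.cons (let4 hi hR hb) (AllP.nil))))
end

theorem cert : Cert 4 4 RL BW fP 3 :=
  Cert.of hT ⟨hsq, hrel⟩ hPZ (fun _ _ _ hi hR _ hb => hlet hi hR hb) hcov hg (by decide +kernel)

end Cfsg.Agent.Spor.C3V
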