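import Cfsg.Agent.Spor.Chk

set_option autoImplicit false
set_option maxRecDepth 100000000
set_option Elab.async false
noncomputable section

namespace Cfsg.Agent.Spor.C3V

def m0_0 : Nat := nat_lit 0x1
def n0 : Net := Net.cons 1 m0_0 (Net.nil)

def n1 : Net := Net.nil

def m2_0 : Nat := nat_lit 0x1
def m2_1 : Nat := nat_lit 0x1
def m2_2 : Nat := nat_lit 0x1
def n2 : Net := Net.cons 2 m2_0 (Net.cons 1 m2_1 (Net.cons 2 m2_2 (Net.nil)))

def m3_0 : Nat := nat_lit 0x1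
def m3_1 : Nat := nat_lit 0x1
def m3_2 : Nat := nat_lit 0x1
def n3 : Net := Net.cons 2 m3_0 (Net.cons 1 m3_1 (Net.cons 2 m3_2 (Net.nil)))

def ip1 : List Nat := [0x2, 0x4]
def l1 : Let := ⟨0, false, 0x7, 0x2, [0x2, 0x4]⟩

def ip2 : List Nat := [0x4, 0x2]
def l2 : Let := ⟨1, false, 0x7, 0x0, [0x0, 0x6]⟩

def ip3 : List Nat := [0x4]
def l3 : Let := ⟨2, false, 0x7, 0x4, [0x4, 0x0]⟩

def ip4 : List Nat := [0x4]
def l4 : Let := ⟨3, false, 0x7, 0x0, [0x4, 0x0]⟩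

def F : Nat := nat_lit 0x2040000100002000000300003000000a00003000000d00010000001200001000000800010000001400002000000c0000a00000230000a04000100000a000001300010000001900010000001100002020000a0000a000001a00002000000f00012000001800002020001a00023040001900012040000200012030000d00012020001200002000001f0000d000001e00012000001d0001200000150000b000002400011030001300011020001100013000001c00011000001b0001100000200000204000150001502000150001500000250001402000210002100000220000e04000160001600000170000204000250002002000200000302000030000102000010000201000020000004000000000003000000000002000000002502000150002401000150002303000140002202000140002104000130002003000130001f04000120001e03000120001d02000120001c03000110001b02000110001a040001000019020001000018040000f00017040000e00016030000e00015030000d00014040000c00013020000c00012010000b00011040000a00010030000a0000f020000a0000e02000090000d04000080000c03000080000b02000070000a0100006000090400005000080200005000070100005000060200004000050300003000040100003000030400001000020300001000010100000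

def rt0_8 : RTree := RTree.node 0x10301030103 ⟨[1, 3, 1, 3, 1, 3], [], 5, false⟩ (RTree.node 0x303 ⟨[3, 3], [], 9, false⟩ (RTree.node 0x202 ⟨[2, 2], [], 9, false⟩ (RTree.node 0x101 ⟨[1, 1], [], 9, false⟩ (RTree.leaf) (RTree.leaf)) (RTree.leaf)) (RTree.node 0x404 ⟨[4, 4], [], 9, false⟩ (RTree.leaf) (RTree.leaf))) (RTree.node 0x204010402040203040203040203040104 ⟨[2, 4, 1, 4, 2, 4, 2, 3, 4, 2, 3, 4, 2, 3, 4, 1, 4], [0, 6, 2], 7, true⟩ (RTree.node 0x20302030203020302030203 ⟨[2, 3, 2, 3, 2, 3, 2, 3, 2, 3, 2, 3], [], 0, false⟩ (RTree.leaf) (RTree.leaf)) (RTree.node 0x403020402040104020401040302040302 ⟨[4, 3, 2, 4, 2, 4, 1, 4, 2, 4, 1, 4, 3, 2, 4, 3, 2], [6, 2, 6, 2, 4, 6], 7, false⟩ (RTree.leaf) (RTree.leaf)))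
def rt9_17 : RTree := RTree.node 0x4020302030403040203040302030203020402 ⟨[4, 2, 3, 2, 3, 4, 3, 4, 2, 3, 4, 3, 2, 3, 2, 3, 2, 4, 2], [6, 2], 3, false⟩ (RTree.node 0x30204020403020403010201040203040204 ⟨[3, 2, 4, 2, 4, 3, 2, 4, 3, 1, 2, 1, 4, 2, 3, 4, 2, 4], [4, 6, 2, 4, 6, 2, 6, 2, 4], 6, false⟩ (RTree.node 0x20304020402030402040302040102010304 ⟨[2, 3, 4, 2, 4, 2, 3, 4, 2, 4, 3, 2, 4, 1, 2, 1, 3, 4], [4, 6], 6, true⟩ (RTree.node 0x20104020304020403020402040302040301 ⟨[2, 1, 4, 2, 3, 4, 2, 4, 3, 2, 4, 2, 4, 3, 2, 4, 3, 1], [0], 6, false⟩ (RTree.leaf) (RTree.leaf)) (RTree.leaf)) (RTree.node 0x40102010304020304020402030402040302 ⟨[4, 1, 2, 1, 3, 4, 2, 3, 4, 2, 4, 2, 3, 4, 2, 4, 3, 2], [0, 2, 0, 6], 6, true⟩ (RTree.leaf) (RTree.leaf))) (RTree.node 0x20403010204030204020403020402040203010304 ⟨[2, 4, 3, 1, 2, 4, 3, 2, 4, 2, 4, 3, 2, 4, 2, 4, 2, 3, 1, 3, 4], [0, 4, 6, 2], 8, true⟩ (RTree.node 0x4030403020302040204020302030203040302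 ⟨[4, 3, 4, 3, 2, 3, 2, 4, 2, 4, 2, 3, 2, 3, 2, 3, 4, 3, 2], [2, 4, 2, 4, 2, 4, 6, 4, 2], 3, true⟩ (RTree.leaf) (RTree.leaf)) (RTree.node 0x20403020402040203010304020403010204030204 ⟨[2, 4, 3, 2, 4, 2, 4, 2, 3, 1, 3, 4, 2, 4, 3, 1, 2, 4, 3, 2, 4], [2, 6, 4, 2, 6], 8, true⟩ (RTree.leaf) (RTree.leaf)))
def rt0_17 : RTree := RTree.node 0x20103040203040204020304020403020401 ⟨[2, 1, 3, 4, 2, 3, 4, 2, 4, 2, 3, 4, 2, 4, 3, 2, 4, 1], [0, 2], 6, true⟩ (rt0_8) (rt9_17)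
def RT : RTree := rt0_17

def NT : List Net := [n0, n1, n2, n3]
def LT : List Let := [⟨0, false, 0, 0, []⟩, l1, l2, l3, l4]
def T : Tab := ⟨NT, LT⟩
def EX : List (List Nat) := [[], [0], [2], [4], [6]]
def RL : List (List Nat) := [[2, 4, 2, 4, 2, 4, 2, 4, 2, 4, 2, 4], [2, 6, 2, 6, 2, 6, 2, 6, 2, 6, 2, 6], [4, 6, 4, 6, 4, 6, 4, 6], [6, 2, 6, 2, 4, 2, 4, 6, 4, 6, 2, 4, 6, 4, 2, 4, 2, 4, 2], [6, 2, 4, 2, 6, 4, 2, 4, 2, 6, 2, 4, 2, 6, 4, 2, 4, 2], [0, 4, 0, 4, 0, 4], [0, 2, 0, 6, 2, 4, 6, 2, 6, 4, 2, 6, 2, 6, 4, 2, 6, 4], [0, 6, 2, 6, 0, 6, 4, 2, 6, 4, 2, 6, 4, 2, 6, 2, 6], [0, 4, 6, 2, 6, 4, 0, 4, 2, 6, 2, 6, 2, 4, 6, 2, 6, 2, 4, 6, 2]]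
def XL : List (List Nat) := []
def BW : List (List Nat) := [[2], [4], [6]]
def IV : Nat := 0x403020100
def L : List Nat := [1, 2, 3, 4]
def gs : List Nat := [1, 2, 3, 4]
def base : List Nat := [2, 3, 4]

end Cfsg.Agent.Spor.C3V
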